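import Groth.Agent.H16Derived.DQCoh.EssImage
import Groth.Agent.H10Coh.AffineLeray
import Groth.Agent.H1DFun.RDAdd
import Groth.Agent.H16Derived.AcyclicLES

/-!
# Injective quasi-coherent modules are acyclic for direct images
-/

set_option autoImplicit false
set_option linter.style.haveILetI false
set_option linter.unusedSectionVars false
set_option backward.isDefEq.respectTransparency false

noncomputable section

universe u

open CategoryTheory CategoryTheory.Limits AlgebraicGeometry Opposite TopologicalSpace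

attribute [local instance] HasDerivedCategory.standard

namespace Groth.Agent.H16Derived.DQCoh

open Groth.Agent.H10Coh CohQCoh

variable {X Y : Scheme.{u}}

/-- A morphism from an affine scheme to a scheme with affine diagonal is affine. -/
theorem isAffineHom_of_affine_source {T : Scheme.{u}} [IsAffine T]
    (hdiag : ∀ U V : Y.Opens, IsAffineOpen U → IsAffineOpen V → IsAffineOpen (U ⊓ V)) (g : T ⟶ Y) :
    IsAffineHom g where
  isAffine_preimage V hV := by
    let S₀ : Set Γ(T, ⊤) :=
      {r | ∃ Vk : Y.Opens, IsAffineOpen Vk ∧ T.basicOpen r ≤ g ⁻¹ᵁ Vk}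
    have hS₀ : Ideal.span S₀ = ⊤ := by
      rw [← (isAffineOpen_top T).self_le_iSup_basicOpen_iff]
      intro x _
      obtain ⟨_, ⟨(Vk : Y.Opens), (hVk : IsAffineOpen Vk), rfl⟩, hxV, -⟩ :=
        Y.isBasis_affineOpens.exists_subset_of_mem_open (Set.mem_univ (g.base x)) isOpen_univ
      obtain ⟨r, hr, hxr⟩ := (isAffineOpen_top T).exists_basicOpen_le
        (V := g ⁻¹ᵁ Vk) ⟨x, hxV⟩ (Opens.mem_top x)
      exact Opens.mem_iSup.2 ⟨⟨r, Vk, hVk, hr⟩, hxr⟩
    let res := (T.presheaf.map (homOfLE (le_top : g ⁻¹ᵁ V ≤ ⊤)).op).hom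
    refine isAffineOpen_of_isAffineOpen_basicOpen _ (res '' S₀)
      (by rw [← Ideal.map_span, hS₀, Ideal.map_top]) ?_
    rintro _ ⟨r, ⟨Vk, hVk, hle⟩, rfl⟩
    show IsAffineOpen (T.basicOpen (T.presheaf.map (homOfLE le_top).op r))
    rw [Scheme.basicOpen_res]
    let D := T.basicOpen r
    haveI : IsAffine (D : Scheme.{u}) := (isAffineOpen_top T).basicOpen r
    haveI : IsAffine (Vk : Scheme.{u}) := hVk
    let h : (D : Scheme.{u}) ⟶ (Vk : Scheme.{u}) := g.resLE Vk D hle
    have hW : IsAffineOpen (Vk.ι ⁻¹ᵁ V) := by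
      rw [← Vk.ι.isAffineOpen_iff_of_isOpenImmersion, Scheme.Hom.image_preimage_eq_opensRange_inf,
        Scheme.Opens.opensRange_ι]
      exact hdiag Vk V hVk hV
    have hP := (hW.preimage h).image_of_isOpenImmersion D.ι
    rw [← Scheme.Hom.comp_preimage, Scheme.Hom.resLE_comp_ι, Scheme.Hom.comp_preimage,
      Scheme.Hom.image_preimage_eq_opensRange_inf, Scheme.Opens.opensRange_ι, inf_comm] at hP
    exact hP

/-- Affine direct images of quasi-coherent modules are acyclic for further direct images. -/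
theorem isZero_rpush_push {Z : Scheme.{u}} (j : Z ⟶ X) [IsAffineHom j] (f : X ⟶ Y)
    [IsAffineHom (j ≫ f)] [HasInjectiveResolutions X.Modules] (M : Z.Modules) [M.IsQuasicoherent] (i : ℕ) (hi : 0 < i) :
    IsZero ((Coh.Rpush f i).obj ((Coh.push j).obj M)) := by
  obtain ⟨n, rfl⟩ := Nat.exists_eq_succ_of_ne_zero hi.ne'
  have h : IsZero (Coh.toAb ((Coh.Rpush f (n + 1)).obj ((Coh.push j).obj M))) :=
    ((isZero_rpushAb_of_isAffineHom (j ≫ f) M n).of_iso
      (nonempty_rpushAb_comp j M f (n + 1)).some).of_iso (nonempty_toAb_rpush f ((Coh.push j).obj M) (n + 1)).some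
  rw [IsZero.iff_id_eq_zero]
  exact (shF Y).map_injective (h.eq_of_src _ _)

variable [(q X).ContainsZero] [(q X).IsClosedUnderKernels] [(q X).IsClosedUnderCokernels]
  [(q X).IsClosedUnderFiniteProducts] [PreservesFiniteLimits (q X).ι]
  [PreservesFiniteColimits (q X).ι]

/-- Injective quasi-coherent modules are acyclic when the charts compose to affine morphisms. -/
theorem isZero_rpush_injective {κ : Type} [Fintype κ] (U : Charts X κ) (f : X ⟶ Y)
    (hf : ∀ i, IsAffineHom (U.j i ≫ f)) [HasInjectiveResolutions X.Modules]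
    (J : (q X).FullSubcategory) (hJ : Injective J) (i : ℕ) (hi : 0 < i) :
    IsZero ((Coh.Rpush f i).obj J.obj) := by
  haveI := hJ
  haveI : HasFiniteBiproducts (q X).FullSubcategory := Abelian.hasFiniteBiproducts
  let B := fun k : κ => (G (X := X) (U.j k)).obj ((F (U.j k)).obj J)
  let u : J ⟶ ⨁ B := biproduct.lift fun k => (adj (X := X) (U.j k)).unit.app J
  haveI : Mono u := by
    refine Preadditive.mono_of_isZero_kernel _ ?_
    have h : ∀ k, IsZero ((kernel u).obj.restrict (U.j k)) := fun k => by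
      rw [← isZero_F_iff]
      refine IsZero.of_iso ?_ (PreservesKernel.iso (F (U.j k)) u)
      haveI : Mono ((F (U.j k)).map u) := by
        haveI := isIso_F_unit (U.j k) J
        haveI : Mono ((F (U.j k)).map u ≫ (F (U.j k)).map (biproduct.π B k)) := by
          rw [← Functor.map_comp, biproduct.lift_π]
          infer_instance
        exact mono_of_mono _ ((F (U.j k)).map (biproduct.π B k))
      exact isZero_kernel_of_mono _
    exact (IsZero.iff_id_eq_zero _).2 (ObjectProperty.hom_ext _
      ((isZero_of_charts U _ h).eq_of_src _ _))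
  let r : ⨁ B ⟶ J := Injective.factorThru (𝟙 J) u
  let Φ := (q X).ι ⋙ Coh.Rpush f i
  show IsZero (Φ.obj J)
  have hB : ∀ k, IsZero (Φ.obj (B k)) := fun k => by
    haveI := hf k
    haveI : ((tilde.functor (U.R k)).obj ((F (U.j k)).obj J)).IsQuasicoherent :=
      inferInstanceAs (tilde ((F (U.j k)).obj J)).IsQuasicoherent
    exact isZero_rpush_push (U.j k) f ((tilde.functor (U.R k)).obj ((F (U.j k)).obj J)) i hi
  haveI : (Coh.Rpush f i).Additive := H1DFun.rightDerived_additive (Scheme.Modules.pushforward f) i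
  haveI : Φ.Additive := inferInstanceAs ((q X).ι ⋙ Coh.Rpush f i).Additive
  have hsum : IsZero (Φ.obj (⨁ B)) := by
    refine (IsZero.iff_id_eq_zero _).2 ?_
    rw [← Φ.map_id, ← biproduct.total, Functor.map_sum]
    refine Finset.sum_eq_zero fun k _ => ?_
    rw [Functor.map_comp, (hB k).eq_of_tgt (Φ.map (biproduct.π B k)) 0, zero_comp]
  refine (IsZero.iff_id_eq_zero _).2 ?_
  rw [← Φ.map_id, ← Injective.comp_factorThru (𝟙 J) u, Functor.map_comp,
    hsum.eq_of_tgt (Φ.map u) 0, zero_comp]

end Groth.Agent.H16Derived.DQCoh
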