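import Groth.Agent.H16Derived.DQCoh.FF
import Groth.Agent.H16Derived.QCohD.Lpull
import Groth.Agent.H16Derived.QCohD.AffineReflect

/-!
# The essential image of `D(QCoh X) ⥤ D(X)`
-/

set_option autoImplicit false
set_option linter.style.haveILetI false
set_option linter.unusedSectionVars false
set_option backward.isDefEq.respectTransparency false

noncomputable section

universe u v v' u₁ u₂

open CategoryTheory CategoryTheory.Limits AlgebraicGeometry Opposite TopologicalSpace
  CategoryTheory.Pretriangulated ZeroObject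

attribute [local instance] HasDerivedCategory.standard

namespace Groth.Agent.H16Derived.DQCoh

open Groth.Agent.H10Coh CohQCoh
open Groth.Agent.H16Derived.KFlat.Stalk (rd)

/-- Cohomology commutes with an exact functor. -/
def homologyMapObjIso {A : Type u₁} [Category.{v} A] [Abelian A] {B : Type u₂} [Category.{v'} B]
    [Abelian B] (Φ : A ⥤ B) [Φ.Additive] [PreservesFiniteLimits Φ] [PreservesFiniteColimits Φ]
    (K : DerivedCategory A) (i : ℤ) :
    (DerivedCategory.homologyFunctor B i).obj (Φ.mapDerivedCategory.obj K) ≅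
      Φ.obj ((DerivedCategory.homologyFunctor A i).obj K) :=
  let e := DerivedCategory.Q.objObjPreimageIso K
  (DerivedCategory.homologyFunctor B i).mapIso
      (Φ.mapDerivedCategory.mapIso e.symm ≪≫ Φ.mapDerivedCategoryFactors.app _) ≪≫
    (DerivedCategory.homologyFunctorFactors B i).app _ ≪≫
    ((DerivedCategory.Q.objPreimage K).sc i).mapHomologyIso Φ ≪≫
    Φ.mapIso (((DerivedCategory.homologyFunctorFactors A i).app _).symm ≪≫
      (DerivedCategory.homologyFunctor A i).mapIso e)

variable {X : Scheme.{u}} [(q X).ContainsZero] [(q X).IsClosedUnderKernels]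
  [(q X).IsClosedUnderCokernels] [(q X).IsClosedUnderFiniteProducts]
  [PreservesFiniteLimits (q X).ι] [PreservesFiniteColimits (q X).ι]

theorem isQCohD_iD (M : DerivedCategory (q X).FullSubcategory) : DCoh.IsQCohD ((iD X).obj M) :=
  fun i => QCohD.isQCoh_iso (homologyMapObjIso (q X).ι M i).symm
    ((DerivedCategory.homologyFunctor (q X).FullSubcategory i).obj M).property

variable {κ : Type} (U : Charts X κ)

theorem isZero_of_rd_zero {K : DCoh.D X} (h : ∀ i, IsZero ((rd (U.j i)).obj K)) : IsZero K :=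
  MVPush.isZero_of_hd K fun n => isZero_of_charts U _ fun i =>
    ((DerivedCategory.homologyFunctor _ n).map_isZero (h i)).of_iso
      (KFlat.Stalk.homologyRdIso (U.j i) K n).symm

section

variable {R : CommRingCat.{u}} (j : Spec R ⟶ X) [IsOpenImmersion j] [IsAffineHom j]

/-- `Rj_* j^* K` comes from quasi-coherent modules and vanishes where `K` does. -/
theorem exists_rpush_rd [DCoh.HasRpush j] {K : DCoh.D X} (hK : DCoh.IsQCohD K) :
    ∃ M : DerivedCategory (q X).FullSubcategory,
      Nonempty ((iD X).obj M ≅ (DCoh.Rpush j).obj ((rd j).obj K)) ∧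
      ∀ {R' : CommRingCat.{u}} (j' : Spec R' ⟶ X) [IsOpenImmersion j'],
        IsZero ((rd j').obj K) → IsZero ((rd j').obj ((iD X).obj M)) := by
  haveI := QCohD.preservesFiniteLimits_tilde_of R
  obtain ⟨N, ⟨e⟩⟩ := QCohD.exists_tildeD_iso R (QCohD.isQCohD_rd j hK)
  obtain ⟨θ⟩ := nonempty_iD_G (X := X) j N
  refine ⟨(G (X := X) j).mapDerivedCategory.obj N, ⟨θ ≪≫ (DCoh.Rpush j).mapIso e⟩,
    fun {R'} j' _ hz => MVPush.isZero_of_hd _ fun n => ?_⟩
  let e₁ : ((Scheme.Modules.pushforward j).obj ((tilde.functor R).obj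
      ((DerivedCategory.homologyFunctor (ModuleCat.{u} R) n).obj N))) ≅
      DCoh.HD ((iD X).obj ((G (X := X) j).mapDerivedCategory.obj N)) n :=
    (homologyMapObjIso (q X).ι _ n ≪≫
      (q X).ι.mapIso (homologyMapObjIso (G (X := X) j) N n)).symm
  let e₂ : (tilde.functor R).obj ((DerivedCategory.homologyFunctor (ModuleCat.{u} R) n).obj N) ≅
      (DCoh.HD K n).restrict j :=
    (homologyMapObjIso (tilde.functor R) N n).symm ≪≫
      (DerivedCategory.homologyFunctor _ n).mapIso e ≪≫ KFlat.Stalk.homologyRdIso j K n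
  refine IsZero.of_iso ?_ (KFlat.Stalk.homologyRdIso j' _ n)
  refine IsZero.of_iso ?_ ((Scheme.Modules.restrictFunctor j').mapIso
    (e₁.symm ≪≫ (Scheme.Modules.pushforward j).mapIso e₂))
  exact Kunneth.isZero_restrict_push j j'
    (((DerivedCategory.homologyFunctor _ n).map_isZero hz).of_iso (KFlat.Stalk.homologyRdIso j' K n).symm)

end

variable [Fintype κ]

/-- Objects with quasi-coherent cohomology come from `D(QCoh X)`. -/
theorem exists_iso_of_isQCohD (s : Finset κ) : ∀ K : DCoh.D X, DCoh.IsQCohD K →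
    (∀ i, i ∉ s → IsZero ((rd (U.j i)).obj K)) → ∃ M, Nonempty ((iD X).obj M ≅ K) := by
  classical
  induction s using Finset.induction_on with
  | empty =>
    exact fun K _ h => ⟨0, ⟨((iD X).map_isZero (isZero_zero _)).iso
      (isZero_of_rd_zero U fun i => h i (Finset.notMem_empty i))⟩⟩
  | @insert m s hm ih =>
    intro K hK hv
    haveI := (full_faithful U).1
    let j := U.j m
    haveI := QCohD.hasRpush j
    obtain ⟨M, ⟨θ⟩, hM⟩ := exists_rpush_rd j hK
    let a := Thomason.restrictRpushAdj j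
    obtain ⟨Z, g, h, hT⟩ := distinguished_cocone_triangle (a.unit.app K ≫ θ.inv)
    have hZ : DCoh.IsQCohD Z := QCohD.AffineUnit.isQCohD_obj₃ hT hK (isQCohD_iD M)
    have hv' : ∀ i, i ∉ s → IsZero ((rd (U.j i)).obj Z) := fun i hi => by
      by_cases him : i = m
      · subst him
        refine (Triangle.isZero₃_iff_isIso₁ _ ((rd (U.j i)).map_distinguished _ hT)).2 ?_
        show IsIso ((rd (U.j i)).map (a.unit.app K ≫ θ.inv))
        haveI := Thomason.isIso_rd_map_unit (U.j i) K
        rw [Functor.map_comp]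
        infer_instance
      · have h₁ := hv i (by simp [him, hi])
        exact Triangle.isZero₃_of_isZero₁₂ _ ((rd (U.j i)).map_distinguished _ hT) h₁ (hM _ h₁)
    obtain ⟨M', ⟨e'⟩⟩ := ih Z hZ hv'
    let φ : M ⟶ M' := (iD X).preimage (g ≫ e'.inv)
    obtain ⟨W, p, r, hS⟩ := distinguished_cocone_triangle φ
    let eT := isoTriangleOfIso₁₂ ((iD X).mapTriangle.obj (Triangle.mk φ p r)) _
      ((iD X).map_distinguished _ hS) (rot_of_distTriang _ hT) (Iso.refl _) e' (by
        show (iD X).map φ ≫ e'.hom = 𝟙 _ ≫ g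
        rw [Category.id_comp, Functor.map_preimage, Category.assoc, Iso.inv_hom_id, Category.comp_id])
    exact ⟨W⟦(-1 : ℤ)⟧, ⟨((iD X).commShiftIso (-1 : ℤ)).app W ≪≫
      (shiftFunctor _ (-1 : ℤ)).mapIso (Triangle.π₃.mapIso eT) ≪≫
      (shiftFunctorCompIsoId _ (1 : ℤ) (-1) (by omega)).app K⟩⟩

include U in
theorem isQCohD_iff (K : DCoh.D X) :
    DCoh.IsQCohD K ↔ ∃ M, Nonempty ((iD X).obj M ≅ K) :=
  ⟨fun hK => exists_iso_of_isQCohD U Finset.univ K hK fun i hi => absurd (Finset.mem_univ i) hi,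
    fun ⟨M, ⟨e⟩⟩ => QCohD.isQCohD_iso e (isQCohD_iD M)⟩

/-- A quasi-compact scheme with affine diagonal has a finite family of affine charts. -/
theorem exists_charts (X : Scheme.{u}) [CompactSpace X]
    (hdiag : ∀ U V : X.Opens, IsAffineOpen U → IsAffineOpen V → IsAffineOpen (U ⊓ V)) :
    ∃ n : ℕ, Nonempty (Charts X (Fin n)) := by
  obtain ⟨t, ht, hcov⟩ :=
    (isCompact_and_isOpen_iff_finite_and_eq_biUnion_affineOpens (U := (Set.univ : Set X))).mp
      ⟨isCompact_univ, isOpen_univ⟩
  haveI : Fintype t := ht.fintype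
  let V : Fin (Fintype.card t) → X.affineOpens := fun i => ((Fintype.equivFin t).symm i).1
  refine ⟨Fintype.card t, ⟨{
    R := fun i => Γ(X, (V i).1)
    j := fun i => (V i).2.fromSpec
    openImmersion := fun i => inferInstance
    affineHom := fun i => isAffineHom_fromSpec hdiag (V i).2
    cover := fun x => ?_ }⟩⟩
  obtain ⟨W, hW, hxW⟩ := Set.mem_iUnion₂.1 (hcov.le (Set.mem_univ x))
  refine ⟨Fintype.equivFin t ⟨W, hW⟩, ?_⟩
  rw [IsAffineOpen.opensRange_fromSpec]
  simpa [V] using hxW

end Groth.Agent.H16Derived.DQCoh
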