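import Groth.Agent.H16Derived.DQCoh.Local
import Groth.Agent.H16Derived.DMinus.Bounded
import Groth.Agent.H16Derived.ExactAdj
import Groth.Agent.H16Derived.DQBound.Affine
import Groth.Agent.H25DTen.Dev
import Mathlib.CategoryTheory.Triangulated.Yoneda
import Mathlib.Algebra.Homology.DerivedCategory.ShortExact

/-!
# `D(QCoh X) ⥤ D(X)` is fully faithful

By induction over a finite affine cover every complex of quasi-coherent modules is built from
direct images from affine charts, for which the statement follows by adjunction.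
-/

set_option autoImplicit false
set_option linter.style.haveILetI false
set_option linter.unusedSectionVars false
set_option backward.isDefEq.respectTransparency false

noncomputable section

universe u

open CategoryTheory CategoryTheory.Limits AlgebraicGeometry Opposite TopologicalSpace
  CategoryTheory.Pretriangulated

attribute [local instance] HasDerivedCategory.standard

namespace Groth.Agent.H16Derived.DQCoh

open Groth.Agent.H10Coh CohQCoh
open Groth.Agent.H16Derived.KFlat.Stalk (rd)

variable {X : Scheme.{u}} [(q X).ContainsZero] [(q X).IsClosedUnderKernels]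
  [(q X).IsClosedUnderCokernels] [(q X).IsClosedUnderFiniteProducts]
  [PreservesFiniteLimits (q X).ι] [PreservesFiniteColimits (q X).ι]

variable (X) in
/-- `D(QCoh X) ⥤ D(X)`. -/
abbrev iD : DerivedCategory (q X).FullSubcategory ⥤ DCoh.D X := (q X).ι.mapDerivedCategory

section Chart

variable {R : CommRingCat.{u}} (j : Spec R ⟶ X) [IsOpenImmersion j] [IsAffineHom j]
  [PreservesFiniteLimits (tilde.functor R)]

instance preservesFiniteColimits_tilde : PreservesFiniteColimits (tilde.functor R) :=
  @PreservesColimitsOfSize.preservesFiniteColimits.{0, 0} _ _ _ _ (tilde.functor R)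
    ((tilde.adjunction (R := R)).leftAdjoint_preservesColimits)

omit [IsAffineHom j] in
theorem nonempty_rd_iD [QuasiCompact j] : Nonempty (iD X ⋙ rd j ≅
    (F (X := X) j).mapDerivedCategory ⋙ (tilde.functor R).mapDerivedCategory) := by
  haveI : (tilde.functor R).Additive := (tilde.adjunction (R := R)).left_adjoint_additive
  haveI : (F (X := X) j ⋙ tilde.functor R).Additive := inferInstance
  haveI : PreservesFiniteLimits (F (X := X) j ⋙ tilde.functor R) := comp_preservesFiniteLimits _ _
  haveI : PreservesFiniteColimits (F (X := X) j ⋙ tilde.functor R) :=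
    comp_preservesFiniteColimits _ _
  obtain ⟨a⟩ := BoundedEquiv.nonempty_mapDerivedCategory_comp (Scheme.Modules.restrictFunctor j)
    (q X).ι (H := F (X := X) j ⋙ tilde.functor R) (FTildeIso j).symm
  obtain ⟨b⟩ := BoundedEquiv.nonempty_mapDerivedCategory_comp (tilde.functor R) (F (X := X) j)
    (H := F (X := X) j ⋙ tilde.functor R) (Iso.refl _)
  exact ⟨a ≪≫ b.symm⟩

theorem nonempty_iD_G [DCoh.HasRpush j] (N : DerivedCategory (ModuleCat.{u} R)) :
    Nonempty ((iD X).obj ((G (X := X) j).mapDerivedCategory.obj N) ≅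
      (DCoh.Rpush j).obj ((tilde.functor R).mapDerivedCategory.obj N)) := by
  let C := DerivedCategory.Q.objPreimage N
  let e : DerivedCategory.Q.obj C ≅ N := DerivedCategory.Q.objObjPreimageIso N
  let T := ((tilde.functor R).mapHomologicalComplex (ComplexShape.up ℤ)).obj C
  have hT : ∀ i, Coh.IsQCoh (T.X i) := fun i => by
    have h : (tilde (C.X i)).IsQuasicoherent := inferInstance
    exact h
  haveI := QCohD.AffineUnit.isIso_rpushUnit_qcoh j T hT
  refine ⟨(iD X).mapIso ((G (X := X) j).mapDerivedCategory.mapIso e.symm ≪≫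
      (G (X := X) j).mapDerivedCategoryFactors.app C) ≪≫
    (q X).ι.mapDerivedCategoryFactors.app _ ≪≫ ?_ ≪≫
    (DCoh.Rpush j).mapIso (((tilde.functor R).mapDerivedCategoryFactors.app C).symm ≪≫
      (tilde.functor R).mapDerivedCategory.mapIso e)⟩
  exact ((DerivedCategory.quotientCompQhIso _).app
      (((Scheme.Modules.pushforward j).mapHomologicalComplex (ComplexShape.up ℤ)).obj T)).symm ≪≫
    asIso ((KFlat.Stalk.rpushUnit j).app ((HomotopyCategory.quotient _ _).obj T)) ≪≫
    (DCoh.Rpush j).mapIso ((DerivedCategory.quotientCompQhIso _).app T)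

/-- The counit of the derived adjunction of a chart is an isomorphism. -/
theorem isIso_counit_mapDerived :
    IsIso (ExactAdj.mapDerivedCategoryAdj (adj (X := X) j)).counit := by
  letI : CatCommSq ((F (X := X) j).mapHomologicalComplex (ComplexShape.up ℤ)) DerivedCategory.Q
    DerivedCategory.Q (F (X := X) j).mapDerivedCategory :=
    ⟨(F (X := X) j).mapDerivedCategoryFactors.symm⟩
  letI : CatCommSq ((G (X := X) j).mapHomologicalComplex (ComplexShape.up ℤ)) DerivedCategory.Q
    DerivedCategory.Q (G (X := X) j).mapDerivedCategory :=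
    ⟨(G (X := X) j).mapDerivedCategoryFactors.symm⟩
  haveI : ∀ N, IsIso ((ExactAdj.mapDerivedCategoryAdj (adj (X := X) j)).counit.app N) := fun N => by
    refine (NatTrans.isIso_app_iff_of_iso _ (DerivedCategory.Q.objObjPreimageIso N)).1 ?_
    rw [ExactAdj.mapDerivedCategoryAdj, Adjunction.localization_counit_app]
    haveI : ∀ n, IsIso (((mapHomologicalComplexAdj (adj (X := X) j) (ComplexShape.up ℤ)).counit.app
        (DerivedCategory.Q.objPreimage N)).f n) := fun n =>
      inferInstanceAs (IsIso ((adj (X := X) j).counit.app ((DerivedCategory.Q.objPreimage N).X n)))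
    haveI : IsIso ((mapHomologicalComplexAdj (adj (X := X) j) (ComplexShape.up ℤ)).counit.app
        (DerivedCategory.Q.objPreimage N)) := HomologicalComplex.Hom.isIso_of_components _
    infer_instance
  exact NatIso.isIso_of_isIso_app _

omit [IsAffineHom j] in
/-- Maps into an object in the image of a right adjoint of restriction to a chart. -/
theorem bijective_of_adj [QuasiCompact j] [DCoh.HasRpush j]
    {G' : DerivedCategory (ModuleCat.{u} R) ⥤ DerivedCategory (q X).FullSubcategory}
    (b : (F (X := X) j).mapDerivedCategory ⊣ G') [IsIso b.counit]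
    (N : DerivedCategory (ModuleCat.{u} R))
    (θ : (iD X).obj (G'.obj N) ≅ (DCoh.Rpush j).obj ((tilde.functor R).mapDerivedCategory.obj N))
    (K : DerivedCategory (q X).FullSubcategory) :
    Function.Bijective (fun φ : K ⟶ G'.obj N => (iD X).map φ) := by
  obtain ⟨σ⟩ := nonempty_rd_iD (X := X) j
  let F' := (F (X := X) j).mapDerivedCategory
  let T := (tilde.functor R).mapDerivedCategory
  haveI : T.Full := (QCohD.full_faithful R).1
  haveI : T.Faithful := (QCohD.full_faithful R).2
  let a := Thomason.restrictRpushAdj j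
  haveI := Thomason.isIso_restrictRpushAdj_counit j
  let c : T.obj (F'.obj (G'.obj N)) ≅ T.obj N :=
    (σ.app (G'.obj N)).symm ≪≫ (rd j).mapIso θ ≪≫ asIso (a.counit.app (T.obj N))
  let w : F'.obj (G'.obj N) ≅ N := T.preimageIso c
  let e₁ : (K ⟶ G'.obj N) ≃ (F'.obj K ⟶ N) :=
    (b.homEquiv K N).symm.trans (((asIso (b.counit.app N)).symm ≪≫ w).homToEquiv)
  let e₂ : ((iD X).obj K ⟶ (iD X).obj (G'.obj N)) ≃ (F'.obj K ⟶ N) :=
    θ.homToEquiv.trans ((a.homEquiv ((iD X).obj K) (T.obj N)).symm.trans
      ((σ.app K).homFromEquiv.trans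
        (Functor.FullyFaithful.ofFullyFaithful T).homEquiv.symm))
  have key : ∀ φ : K ⟶ G'.obj N, e₂ ((iD X).map φ) = e₁ φ := fun φ => by
    refine T.map_injective ?_
    show T.map (T.preimage ((σ.app K).inv ≫ (a.homEquiv _ _).symm ((iD X).map φ ≫ θ.hom))) =
      T.map ((b.homEquiv K N).symm φ ≫ inv (b.counit.app N) ≫ w.hom)
    rw [T.map_preimage, Adjunction.homEquiv_counit, Adjunction.homEquiv_counit, Category.assoc,
      IsIso.hom_inv_id_assoc, Functor.map_comp, Functor.map_comp, Category.assoc]
    rw [show T.map w.hom = c.hom from T.map_preimage c.hom]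
    exact (reassoc_of% (σ.inv.naturality φ).symm) _
  refine (Function.Bijective.of_comp_iff' e₂.bijective _).1 ?_
  rw [show ⇑e₂ ∘ (fun φ : K ⟶ G'.obj N => (iD X).map φ) = ⇑e₁ from funext key]
  exact e₁.bijective

/-- Maps into objects induced from a chart. -/
theorem bijective_G (K : DerivedCategory (q X).FullSubcategory)
    (N : DerivedCategory (ModuleCat.{u} R)) :
    Function.Bijective (fun φ : K ⟶ (G (X := X) j).mapDerivedCategory.obj N => (iD X).map φ) := by
  haveI := QCohD.hasRpush j
  obtain ⟨θ⟩ := nonempty_iD_G (X := X) j N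
  haveI := isIso_counit_mapDerived (X := X) j
  exact bijective_of_adj j (ExactAdj.mapDerivedCategoryAdj (adj (X := X) j)) N θ K

end Chart

/-- Objects all whose shifts receive the same maps in `D(QCoh X)` and in `D(X)`. -/
def Good (L : DerivedCategory (q X).FullSubcategory) : Prop :=
  ∀ (K : DerivedCategory (q X).FullSubcategory) (n : ℤ),
    Function.Bijective (fun φ : K ⟶ L⟦n⟧ => (iD X).map φ)

theorem Good.of_iso {L L' : DerivedCategory (q X).FullSubcategory} (e : L ≅ L') (h : Good L) :
    Good L' := fun K n =>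
  BoundedEquiv.bijective_conj (iD X) (Iso.refl K) ((shiftFunctor _ n).mapIso e).symm (h K n)

theorem Good.of_isZero {L : DerivedCategory (q X).FullSubcategory} (h : IsZero L) : Good L :=
  fun K n => by
  have h₁ := (shiftFunctor _ n).map_isZero h
  have h₂ := (iD X).map_isZero h₁
  exact ⟨fun φ ψ _ => h₁.eq_of_tgt φ ψ, fun φ => ⟨0, h₂.eq_of_tgt _ _⟩⟩

theorem Good.shift {L : DerivedCategory (q X).FullSubcategory} (h : Good L) (m : ℤ) :
    Good (L⟦m⟧) := fun K n =>
  BoundedEquiv.bijective_conj (iD X) (Iso.refl K) ((shiftFunctorAdd _ m n).app L).symm (h K (m + n))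

/-- The comparison map as a natural transformation. -/
def homMap (K : DerivedCategory (q X).FullSubcategory) :
    preadditiveCoyoneda.obj (op K) ⟶ iD X ⋙ preadditiveCoyoneda.obj (op ((iD X).obj K)) where
  app L := AddCommGrpCat.ofHom
    (AddMonoidHom.mk' (fun φ : K ⟶ L => (iD X).map φ) fun _ _ => (iD X).map_add)
  naturality L L' f := AddCommGrpCat.hom_ext (AddMonoidHom.ext fun φ => (iD X).map_comp φ f)

theorem Good.ext {T : Triangle (DerivedCategory (q X).FullSubcategory)}
    (hT : T ∈ distTriang (DerivedCategory (q X).FullSubcategory)) (h₁ : Good T.obj₁)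
    (h₃ : Good T.obj₃) : Good T.obj₂ := fun K n => by
  refine H25DTen.Dev.bijective_shift_ext (homMap K) (fun S hS => ?_) (fun S hS => ?_) T hT
    (fun m => h₁ K m) (fun m => h₃ K m) n
  · exact (ShortComplex.ab_exact_iff_function_exact _).1
      ((preadditiveCoyoneda.obj (op K)).map_distinguished_exact S hS)
  · exact (ShortComplex.ab_exact_iff_function_exact _).1
      ((preadditiveCoyoneda.obj (op ((iD X).obj K))).map_distinguished_exact _
        ((iD X).map_distinguished S hS))

theorem Good.left {T : Triangle (DerivedCategory (q X).FullSubcategory)}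
    (hT : T ∈ distTriang (DerivedCategory (q X).FullSubcategory)) (h₂ : Good T.obj₂)
    (h₃ : Good T.obj₃) : Good T.obj₁ :=
  Good.ext (inv_rot_of_distTriang _ hT) (h₃.shift (-1)) h₂

/-- Middle terms and kernels of short exact sequences of complexes. -/
theorem Good.of_shortExact {S : ShortComplex (CochainComplex (q X).FullSubcategory ℤ)}
    (hS : S.ShortExact) :
    (Good (DerivedCategory.Q.obj S.X₁) → Good (DerivedCategory.Q.obj S.X₃) →
      Good (DerivedCategory.Q.obj S.X₂)) ∧
    (Good (DerivedCategory.Q.obj S.X₂) → Good (DerivedCategory.Q.obj S.X₃) →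
      Good (DerivedCategory.Q.obj S.X₁)) :=
  ⟨fun h₁ h₃ => Good.ext (DerivedCategory.triangleOfSES_distinguished hS) h₁ h₃,
    fun h₂ h₃ => Good.left (DerivedCategory.triangleOfSES_distinguished hS) h₂ h₃⟩

/-- A finite family of affine charts. -/
structure Charts (X : Scheme.{u}) (κ : Type) where
  /-- The rings. -/
  R : κ → CommRingCat.{u}
  /-- The charts. -/
  j : ∀ i, Spec (R i) ⟶ X
  openImmersion : ∀ i, IsOpenImmersion (j i)
  affineHom : ∀ i, IsAffineHom (j i)
  cover : ∀ x : X, ∃ i, x ∈ (j i).opensRange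

attribute [instance] Charts.openImmersion Charts.affineHom

variable {κ : Type} (U : Charts X κ)

theorem isZero_of_charts (M : X.Modules) (h : ∀ i, IsZero (M.restrict (U.j i))) : IsZero M :=
  Kunneth.isZero_of_sections _ fun W => subsingleton_of_forall_eq 0 fun s => by
    refine TopCat.Presheaf.section_ext (sh M) W _ _ fun x hx => ?_
    obtain ⟨i, hi⟩ := U.cover x
    haveI := Kunneth.subsingleton_of_isZero_restrict (U.j i) (h i)
      (W := W ⊓ (U.j i).opensRange) inf_le_right
    exact (germ_eq_zero_of_le M (inf_le_left : W ⊓ (U.j i).opensRange ≤ W)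
      (⟨hx, hi⟩ : x ∈ W ⊓ (U.j i).opensRange) _ (Subsingleton.elim _ _)).trans (map_zero _).symm

/-- The complexes vanishing on the charts outside `s`. -/
def Van (s : Finset κ) (C : CochainComplex (q X).FullSubcategory ℤ) : Prop :=
  ∀ i, i ∉ s → ∀ n, IsZero ((F (U.j i)).obj (C.X n))

theorem isZero_of_van_empty {C : CochainComplex (q X).FullSubcategory ℤ} (h : Van U ∅ C) :
    IsZero C := by
  have hX : ∀ n, IsZero (C.X n) := fun n => (IsZero.iff_id_eq_zero _).2 (ObjectProperty.hom_ext _
    ((isZero_of_charts U (C.X n).obj fun i =>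
      (isZero_F_iff (U.j i) (C.X n)).1 (h i (Finset.notMem_empty i) n)).eq_of_src _ _))
  exact (IsZero.iff_id_eq_zero _).2 (HomologicalComplex.hom_ext _ _ fun n => (hX n).eq_of_src _ _)

theorem isIso_F_unit {R : CommRingCat.{u}} (j : Spec R ⟶ X) [IsOpenImmersion j] [IsAffineHom j]
    (M : (q X).FullSubcategory) : IsIso ((F (X := X) j).map ((adj (X := X) j).unit.app M)) := by
  haveI : IsIso ((F (X := X) j).map ((adj (X := X) j).unit.app M) ≫
      (adj (X := X) j).counit.app ((F (X := X) j).obj M)) :=
    ((adj (X := X) j).left_triangle_components M).symm ▸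
      (inferInstance : IsIso (𝟙 ((F (X := X) j).obj M)))
  exact IsIso.of_isIso_comp_right _ ((adj (X := X) j).counit.app ((F (X := X) j).obj M))

/-- The unit `C ⟶ j_* j^* C`. -/
def unitCx {R : CommRingCat.{u}} (j : Spec R ⟶ X) [IsOpenImmersion j] [IsAffineHom j]
    (C : CochainComplex (q X).FullSubcategory ℤ) :
    C ⟶ ((G (X := X) j).mapHomologicalComplex (ComplexShape.up ℤ)).obj
      (((F (X := X) j).mapHomologicalComplex (ComplexShape.up ℤ)).obj C) where
  f n := (adj (X := X) j).unit.app (C.X n)
  comm' p q _ := ((adj (X := X) j).unit.naturality (C.d p q)).symm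

theorem isZero_F_kernel {R : CommRingCat.{u}} (j : Spec R ⟶ X) [IsOpenImmersion j] [IsAffineHom j]
    {C B : CochainComplex (q X).FullSubcategory ℤ} (u : C ⟶ B) (n : ℤ)
    (h : IsZero ((F j).obj (C.X n)) ∨ IsIso ((F j).map (u.f n))) :
    IsZero ((F j).obj ((kernel u).X n)) := by
  let ev := HomologicalComplex.eval (q X).FullSubcategory (ComplexShape.up ℤ) n
  refine IsZero.of_iso ?_ ((F j).mapIso (PreservesKernel.iso ev u) ≪≫ PreservesKernel.iso (F j) _)
  rcases h with h | h
  · refine (IsZero.iff_id_eq_zero _).2 ?_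
    rw [← cancel_mono (kernel.ι _)]
    exact h.eq_of_tgt _ _
  · haveI : IsIso ((F j).map (ev.map u)) := h
    exact @isZero_kernel_of_mono _ _ _ _ _ _ (IsIso.mono_of_iso _) _

theorem isZero_F_cokernel {R : CommRingCat.{u}} (j : Spec R ⟶ X) [IsOpenImmersion j] [IsAffineHom j]
    {C B : CochainComplex (q X).FullSubcategory ℤ} (u : C ⟶ B) (n : ℤ)
    (h : IsZero ((F j).obj (B.X n)) ∨ IsIso ((F j).map (u.f n))) :
    IsZero ((F j).obj ((cokernel u).X n)) := by
  let ev := HomologicalComplex.eval (q X).FullSubcategory (ComplexShape.up ℤ) n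
  refine IsZero.of_iso ?_ ((F j).mapIso (PreservesCokernel.iso ev u) ≪≫ PreservesCokernel.iso (F j) _)
  rcases h with h | h
  · refine (IsZero.iff_id_eq_zero _).2 ?_
    rw [← cancel_epi (cokernel.π _)]
    exact h.eq_of_src _ _
  · haveI : IsIso ((F j).map (ev.map u)) := h
    exact @isZero_cokernel_of_epi _ _ _ _ _ _ (IsIso.epi_of_iso _) _

theorem Good.of_kernel_cokernel {C B : CochainComplex (q X).FullSubcategory ℤ} (u : C ⟶ B)
    (hB : Good (DerivedCategory.Q.obj B)) (hk : Good (DerivedCategory.Q.obj (kernel u)))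
    (hc : Good (DerivedCategory.Q.obj (cokernel u))) : Good (DerivedCategory.Q.obj C) := by
  let S₁ := ShortComplex.mk (kernel.ι u) (Abelian.factorThruImage u)
    (by rw [← cancel_mono (Abelian.image.ι u), Category.assoc, Abelian.image.fac, zero_comp,
      kernel.condition])
  have hS₁ : S₁.ShortExact := by
    refine { exact := S₁.exact_of_f_is_kernel ?_ }
    exact KernelFork.IsLimit.ofι' _ _ fun k hk =>
      ⟨kernel.lift u k (by rw [← Abelian.image.fac u, ← Category.assoc, hk, zero_comp]),
        kernel.lift_ι _ _ _⟩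
  let S₂ := ShortComplex.mk (Abelian.image.ι u) (cokernel.π u) (kernel.condition _)
  have hS₂ : S₂.ShortExact := { exact := S₂.exact_of_f_is_kernel (kernelIsKernel _) }
  exact (Good.of_shortExact hS₁).1 hk ((Good.of_shortExact hS₂).2 hB hc)

theorem good_G {R : CommRingCat.{u}} (j : Spec R ⟶ X) [IsOpenImmersion j] [IsAffineHom j]
    (D : CochainComplex (ModuleCat.{u} R) ℤ) :
    Good (DerivedCategory.Q.obj (((G (X := X) j).mapHomologicalComplex (ComplexShape.up ℤ)).obj D)) := by
  refine Good.of_iso ((G (X := X) j).mapDerivedCategoryFactors.app D) fun K n => ?_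
  haveI := QCohD.preservesFiniteLimits_tilde_of R
  exact BoundedEquiv.bijective_conj (iD X) (Iso.refl K)
    (((G (X := X) j).mapDerivedCategory.commShiftIso n).app (DerivedCategory.Q.obj D)).symm
    (bijective_G j K _)

/-- Every complex vanishing outside a finite set of charts is good. -/
theorem good_of_van (s : Finset κ) : ∀ C : CochainComplex (q X).FullSubcategory ℤ, Van U s C →
    Good (DerivedCategory.Q.obj C) := by
  classical
  induction s using Finset.induction_on with
  | empty =>
    exact fun C hC => Good.of_isZero (Functor.map_isZero _ (isZero_of_van_empty U hC))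
  | @insert m s hm ih =>
    intro C hC
    refine Good.of_kernel_cokernel (unitCx (U.j m) C) (good_G (U.j m) _) (ih _ fun i hi n => ?_)
      (ih _ fun i hi n => ?_)
    · by_cases h : i = m
      · subst h
        exact isZero_F_kernel (U.j i) _ n (Or.inr (isIso_F_unit (U.j i) (C.X n)))
      · exact isZero_F_kernel (U.j i) _ n (Or.inl (hC i (by simp [h, hi]) n))
    · by_cases h : i = m
      · subst h
        exact isZero_F_cokernel (U.j i) _ n (Or.inr (isIso_F_unit (U.j i) (C.X n)))
      · exact isZero_F_cokernel (U.j i) _ n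
          (Or.inl (isZero_F_G_F (U.j m) (U.j i) (C.X n) (hC i (by simp [h, hi]) n)))

include U in
/-- `D(QCoh X) ⥤ D(X)` is fully faithful. -/
theorem full_faithful [Fintype κ] : (iD X).Full ∧ (iD X).Faithful := by
  have key : ∀ K L : DerivedCategory (q X).FullSubcategory,
      Function.Bijective (fun φ : K ⟶ L => (iD X).map φ) := fun K L => by
    have h := Good.of_iso (DerivedCategory.Q.objObjPreimageIso L)
      (good_of_van U Finset.univ (DerivedCategory.Q.objPreimage L)
        fun i hi => absurd (Finset.mem_univ i) hi)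
    exact BoundedEquiv.bijective_conj (iD X) (Iso.refl K) ((shiftFunctorZero _ ℤ).app L).symm (h K 0)
  exact ⟨⟨fun φ => (key _ _).2 φ⟩, ⟨fun h => (key _ _).1 h⟩⟩

end Groth.Agent.H16Derived.DQCoh
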