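import Groth.Agent.H16Derived.DMinus.CohQCoh
import Groth.Agent.H16Derived.Thomason.Adj
import Groth.Agent.H16Derived.QCohD.AffineUnit
import Groth.Agent.H10Coh.BaseChange
import Groth.Agent.H10Coh.QcqsPush
import Groth.Agent.H10Coh.Kunneth.Retract
import Mathlib.CategoryTheory.Abelian.Subcategory

/-!
# Affine charts of the category of quasi-coherent modules

For an affine open immersion `j : Spec R ⟶ X` the functor `Γ(j^* -) : QCoh X ⥤ Mod R` is exact and
has the exact fully faithful right adjoint `j_* ∘ tilde`.
-/

set_option autoImplicit false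
set_option linter.style.haveILetI false
set_option linter.unusedSectionVars false
set_option backward.isDefEq.respectTransparency false

noncomputable section

universe u

open CategoryTheory CategoryTheory.Limits AlgebraicGeometry Opposite TopologicalSpace

attribute [local instance] HasDerivedCategory.standard

namespace Groth.Agent.H16Derived.DQCoh

open Groth.Agent.H10Coh CohQCoh

/-- Affine opens of a scheme with affine diagonal include affinely. -/
theorem isAffineHom_fromSpec {X : Scheme.{u}}
    (hdiag : ∀ U V : X.Opens, IsAffineOpen U → IsAffineOpen V → IsAffineOpen (U ⊓ V))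
    {U : X.Opens} (hU : IsAffineOpen U) : IsAffineHom hU.fromSpec where
  isAffine_preimage V hV := by
    rw [← hU.fromSpec.isAffineOpen_iff_of_isOpenImmersion,
      Scheme.Hom.image_preimage_eq_opensRange_inf, hU.opensRange_fromSpec]
    exact hdiag U V hU hV

variable {X : Scheme.{u}}

/-- Affine direct images preserve epimorphisms of quasi-coherent modules. -/
theorem epi_pushforward {Z : Scheme.{u}} (f : Z ⟶ X) [IsAffineHom f] {M N : Z.Modules}
    [M.IsQuasicoherent] [N.IsQuasicoherent] (φ : M ⟶ N) [Epi φ] :
    Epi ((Scheme.Modules.pushforward f).map φ) := by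
  refine ⟨fun {Y} g₁ g₂ h => Scheme.Modules.hom_ext _ _ fun W =>
    AddCommGrpCat.hom_ext (AddMonoidHom.ext fun s => ?_)⟩
  refine TopCat.Presheaf.section_ext (sh Y) W _ _ fun x hx => ?_
  obtain ⟨_, ⟨(V : X.Opens), (hV : IsAffineOpen V), rfl⟩, hxV, hle'⟩ :=
    X.isBasis_affineOpens.exists_subset_of_mem_open hx W.2
  have hle : V ≤ W := hle'
  obtain ⟨a, ha⟩ := surjective_app_of_epi φ (hV.preimage f)
    (((Scheme.Modules.pushforward f).obj N).presheaf.map (homOfLE hle).op s)
  have hs : ((Scheme.Modules.pushforward f).map φ).app V a =
      ((Scheme.Modules.pushforward f).obj N).presheaf.map (homOfLE hle).op s := ha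
  have h₀ : g₁.app V (((Scheme.Modules.pushforward f).map φ).app V a) =
      g₂.app V (((Scheme.Modules.pushforward f).map φ).app V a) :=
    congr($(h).app V a)
  have h₁ : Y.presheaf.map (homOfLE hle).op (g₁.app W s) =
      Y.presheaf.map (homOfLE hle).op (g₂.app W s) :=
    (H11Tilde.app_map_apply g₁ hle s).symm.trans (((congrArg (g₁.app V) hs).symm.trans
      (h₀.trans (congrArg (g₂.app V) hs))).trans (H11Tilde.app_map_apply g₂ hle s))
  exact ((TopCat.Presheaf.germ_res_apply Y.presheaf (homOfLE hle) x hxV (g₁.app W s)).symm.trans
    (congrArg _ h₁)).trans (TopCat.Presheaf.germ_res_apply Y.presheaf (homOfLE hle) x hxV (g₂.app W s))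

variable [(q X).ContainsZero] [(q X).IsClosedUnderKernels] [(q X).IsClosedUnderCokernels]
  [(q X).IsClosedUnderFiniteProducts] [PreservesFiniteLimits (q X).ι]
  [PreservesFiniteColimits (q X).ι]
  {R : CommRingCat.{u}} (j : Spec R ⟶ X)

variable [IsOpenImmersion j]

/-- `N ↦ j_* (tilde N)`. -/
def G [QuasiCompact j] : ModuleCat.{u} R ⥤ (q X).FullSubcategory :=
  (q X).lift (tilde.functor R ⋙ Scheme.Modules.pushforward j) fun N =>
    @isQuasicoherent_pushforward _ _ j _ _ _
      (inferInstanceAs (tilde N).IsQuasicoherent)

/-- `M ↦ Γ(j^* M)`. -/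
def F : (q X).FullSubcategory ⥤ ModuleCat.{u} R :=
  (q X).ι ⋙ Scheme.Modules.restrictFunctor j ⋙ moduleSpecΓFunctor

/-- `F` followed by tilde is restriction. -/
def FTildeIso : F j ⋙ tilde.functor R ≅ (q X).ι ⋙ Scheme.Modules.restrictFunctor j :=
  haveI : ∀ M : (q X).FullSubcategory,
      IsIso (((Scheme.Modules.restrictFunctor j).obj M.obj).fromTildeΓ) := fun M =>
    haveI : M.obj.IsQuasicoherent := M.property
    haveI := Scheme.Modules.isQuasicoherent_restrictFunctor j M.obj
    Scheme.Modules.isIso_fromTildeΓ_of_isQuasicoherent (R := R) _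
  NatIso.ofComponents (fun M => asIso (((Scheme.Modules.restrictFunctor j).obj M.obj).fromTildeΓ))
    fun f => Scheme.Modules.fromTildeΓNatTrans.naturality
      ((Scheme.Modules.restrictFunctor j).map f.hom)

variable [QuasiCompact j]

instance additive_F : (F (X := X) j).Additive := by
  haveI : (moduleSpecΓFunctor (R := R)).Additive :=
    (tilde.adjunction (R := R)).right_adjoint_additive
  unfold F; infer_instance

instance additive_G : (G (X := X) j).Additive where
  map_add := fun {M N f g} => ObjectProperty.hom_ext _
    ((tilde.functor R ⋙ Scheme.Modules.pushforward j).map_add (f := f) (g := g))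

/-- Maps out of `Γ(j^* M)`. -/
def homEquiv (M : (q X).FullSubcategory) (N : ModuleCat.{u} R) :
    ((F j).obj M ⟶ N) ≃ (M ⟶ (G j).obj N) where
  toFun h := ObjectProperty.homMk ((Scheme.Modules.restrictAdjunction j).homEquiv M.obj _
    ((FTildeIso j).inv.app M ≫ (tilde.functor R).map h))
  invFun g := (tilde.functor R).preimage ((FTildeIso j).hom.app M ≫
    ((Scheme.Modules.restrictAdjunction j).homEquiv M.obj ((tilde.functor R).obj N)).symm g.hom)
  left_inv h := (tilde.functor R).map_injective (by
    rw [Functor.map_preimage]
    refine (congrArg ((FTildeIso j).hom.app M ≫ ·) (Equiv.symm_apply_apply _ _)).trans ?_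
    exact Iso.hom_inv_id_app_assoc (FTildeIso j) M _)
  right_inv g := ObjectProperty.hom_ext _ (by
    show (Scheme.Modules.restrictAdjunction j).homEquiv M.obj _ _ = g.hom
    rw [Functor.map_preimage]
    refine (congrArg _ (Iso.inv_hom_id_app_assoc (FTildeIso j) M _)).trans ?_
    exact Equiv.apply_symm_apply _ _)

/-- The adjunction `Γ(j^* -) ⊣ j_* tilde`. -/
def adj : F (X := X) j ⊣ G j :=
  Adjunction.mkOfHomEquiv
    { homEquiv := homEquiv j
      homEquiv_naturality_left_symm := fun {M M' N} f g => by
        refine (tilde.functor R).map_injective ?_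
        show (tilde.functor R).map ((tilde.functor R).preimage _) =
          (tilde.functor R).map ((F j).map f ≫ (tilde.functor R).preimage _)
        rw [Functor.map_comp, Functor.map_preimage, Functor.map_preimage]
        refine (congrArg ((FTildeIso j).hom.app M ≫ ·)
          ((Scheme.Modules.restrictAdjunction j).homEquiv_naturality_left_symm f.hom g.hom)).trans ?_
        exact (Category.assoc _ _ _).symm.trans
          ((congrArg (· ≫ _) ((FTildeIso j).hom.naturality f).symm).trans (Category.assoc _ _ _))
      homEquiv_naturality_right := fun {M N N'} f g => ObjectProperty.hom_ext _ (by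
        show (Scheme.Modules.restrictAdjunction j).homEquiv M.obj _
            ((FTildeIso j).inv.app M ≫ (tilde.functor R).map (f ≫ g)) =
          (Scheme.Modules.restrictAdjunction j).homEquiv M.obj _
            ((FTildeIso j).inv.app M ≫ (tilde.functor R).map f) ≫
            (Scheme.Modules.pushforward j).map ((tilde.functor R).map g)
        rw [← Adjunction.homEquiv_naturality_right, Category.assoc, Functor.map_comp]) }

instance preservesFiniteLimits_F : PreservesFiniteLimits (F (X := X) j) := by
  haveI : PreservesFiniteLimits (moduleSpecΓFunctor (R := R)) :=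
    @PreservesLimitsOfSize.preservesFiniteLimits.{0, 0} _ _ _ _ _
      ((tilde.adjunction (R := R)).rightAdjoint_preservesLimits)
  haveI : PreservesFiniteLimits (Scheme.Modules.restrictFunctor j) := inferInstance
  unfold F
  haveI : PreservesFiniteLimits (Scheme.Modules.restrictFunctor j ⋙ moduleSpecΓFunctor (R := R)) :=
    comp_preservesFiniteLimits _ _
  exact comp_preservesFiniteLimits _ _

instance preservesFiniteColimits_F : PreservesFiniteColimits (F (X := X) j) :=
  haveI : (F (X := X) j).IsLeftAdjoint := (adj j).isLeftAdjoint
  inferInstance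

instance preservesFiniteLimits_G : PreservesFiniteLimits (G (X := X) j) :=
  haveI : (G (X := X) j).IsRightAdjoint := (adj j).isRightAdjoint
  inferInstance

instance preservesFiniteColimits_G [IsAffineHom j] : PreservesFiniteColimits (G (X := X) j) := by
  haveI : (G (X := X) j).PreservesEpimorphisms := ⟨fun {M N} φ _ => by
    haveI : (tilde.functor R).PreservesEpimorphisms :=
      Functor.preservesEpimorphisms_of_adjunction tilde.adjunction
    haveI : ((tilde.functor R).obj M).IsQuasicoherent := inferInstanceAs (tilde M).IsQuasicoherent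
    haveI : ((tilde.functor R).obj N).IsQuasicoherent := inferInstanceAs (tilde N).IsQuasicoherent
    exact (q X).ι.epi_of_epi_map (epi_pushforward j ((tilde.functor R).map φ))⟩
  haveI := Functor.preservesHomology_of_preservesEpis_and_kernels (G (X := X) j)
  exact Functor.preservesFiniteColimits_of_preservesHomology _

instance full_G : (G (X := X) j).Full := by
  haveI : (Scheme.Modules.pushforward j).Full :=
    (Scheme.Modules.restrictAdjunction j).fullyFaithfulROfIsIsoCounit.full
  unfold G; infer_instance

instance faithful_G : (G (X := X) j).Faithful := by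
  haveI : (Scheme.Modules.pushforward j).Faithful :=
    (Scheme.Modules.restrictAdjunction j).fullyFaithfulROfIsIsoCounit.faithful
  unfold G; infer_instance

instance isIso_counit : IsIso (adj (X := X) j).counit := inferInstance

/-- Modules that vanish on a chart. -/
theorem isZero_F_iff (M : (q X).FullSubcategory) :
    IsZero ((F j).obj M) ↔ IsZero (M.obj.restrict j) := by
  refine ⟨fun h => IsZero.of_iso ((tilde.functor R).map_isZero h) ((FTildeIso j).app M).symm,
    fun h => ?_⟩
  exact (moduleSpecΓFunctor (R := R)).map_isZero h

/-- Vanishing on another chart passes to `j_* j^*`. -/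
theorem isZero_F_G_F {R' : CommRingCat.{u}} (j' : Spec R' ⟶ X) [IsOpenImmersion j'] [IsAffineHom j']
    (M : (q X).FullSubcategory) (h : IsZero ((F j').obj M)) :
    IsZero ((F j').obj ((G j).obj ((F j).obj M))) := by
  rw [isZero_F_iff] at h ⊢
  exact (Kunneth.isZero_restrict_push j j' h).of_iso
    ((Scheme.Modules.restrictFunctor j').mapIso
      ((Scheme.Modules.pushforward j).mapIso ((FTildeIso j).app M)))

end Groth.Agent.H16Derived.DQCoh
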