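import Groth.Agent.H16Derived.DQCoh.EssImage
import Groth.Agent.H16Derived.ExactRightAdj
import Groth.Agent.H16Derived.QCohD.AcyclicUnit
import Groth.Agent.H16Derived.RGammaZ.Push
import Groth.Agent.H10Inj.TildeInjective

/-!
# `D(QCoh X) ≅ D_QCoh(X)` for Noetherian `X`

The charts of a Noetherian scheme need not be affine morphisms; restriction to a chart then has
the derived right adjoint of `j_* ∘ tilde`, computed with injective modules.
-/

set_option autoImplicit false
set_option linter.style.haveILetI false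
set_option linter.unusedSectionVars false
set_option backward.isDefEq.respectTransparency false

noncomputable section

universe u

open CategoryTheory CategoryTheory.Limits AlgebraicGeometry Opposite TopologicalSpace
  CategoryTheory.Pretriangulated ZeroObject

attribute [local instance] HasDerivedCategory.standard

namespace Groth.Agent.H16Derived.DQCoh

open Groth.Agent.H10Coh CohQCoh
open Groth.Agent.H16Derived.KFlat.Stalk (rd)

/-- Vanishing on a chart only depends on its image. -/
theorem isZero_rd_restrict {X : Scheme.{u}} {U U' Z : Scheme.{u}} (j : U ⟶ X) [IsOpenImmersion j]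
    (j' : U' ⟶ X) [IsOpenImmersion j'] (k : Z ⟶ U') [IsOpenImmersion k]
    (h : j' ''ᵁ k.opensRange ≤ j.opensRange) (K : DCoh.D X) (hK : IsZero ((rd j).obj K)) :
    IsZero ((rd k).obj ((rd j').obj K)) := by
  refine MVPush.isZero_of_hd _ fun n => IsZero.of_iso ?_
    (KFlat.Stalk.homologyRdIso k _ n ≪≫
      (Scheme.Modules.restrictFunctor k).mapIso (KFlat.Stalk.homologyRdIso j' K n))
  exact Kunneth.isZero_of_sections _ fun W => Kunneth.subsingleton_of_isZero_restrict j
    (((DerivedCategory.homologyFunctor _ n).map_isZero hK).of_iso (KFlat.Stalk.homologyRdIso j K n).symm)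
    (W := j' ''ᵁ (k ''ᵁ W)) ((Scheme.Hom.image_mono j' (k.image_le_opensRange W)).trans h)

variable {X : Scheme.{u}} [(q X).ContainsZero] [(q X).IsClosedUnderKernels]
  [(q X).IsClosedUnderCokernels] [(q X).IsClosedUnderFiniteProducts]
  [PreservesFiniteLimits (q X).ι] [PreservesFiniteColimits (q X).ι]

section Chart

variable {R : CommRingCat.{u}} [IsNoetherianRing R] (j : Spec R ⟶ X) [IsOpenImmersion j] [QuasiCompact j]

/-- The derived right adjoint of restriction to a Noetherian chart. -/
theorem exists_rightAdj :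
    ∃ (G' : DerivedCategory (ModuleCat.{u} R) ⥤ DerivedCategory (q X).FullSubcategory)
      (b : (F (X := X) j).mapDerivedCategory ⊣ G'), IsIso b.counit ∧
      ∀ (_ : DCoh.HasRpush j) [PreservesFiniteLimits (tilde.functor R)] (N : DerivedCategory (ModuleCat.{u} R)),
        Nonempty ((iD X).obj (G'.obj N) ≅
          (DCoh.Rpush j).obj ((tilde.functor R).mapDerivedCategory.obj N)) := by
  let Gj := G (X := X) j
  haveI : Gj.Additive := (adj (X := X) j).right_adjoint_additive
  haveI := ExactRightAdj.hasPointwise (F := Gj)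
  haveI : ∀ N, IsIso ((adj (X := X) j).counit.app N) := fun N => inferInstance
  refine ⟨ExactRightAdj.RF Gj, ExactRightAdj.adjD (adj (X := X) j),
    ExactRightAdj.isIso_counit_adjD _, fun _ _ N => ?_⟩
  obtain ⟨Nf, ρ, hN⟩ := KInjRes.exists_resolution_functor (A := ModuleCat.{u} R)
  let C := DerivedCategory.Q.objPreimage N
  let I := Nf.obj C
  haveI := (hN C).2.2.1
  haveI := (hN C).2.1
  let qR := HomotopyCategory.quotient (ModuleCat.{u} R) (ComplexShape.up ℤ)
  let e : DerivedCategory.Qh.obj (qR.obj I) ≅ N :=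
    (DerivedCategory.quotientCompQhIso _).app I ≪≫ (asIso (DerivedCategory.Q.map (ρ.app C))).symm ≪≫
      DerivedCategory.Q.objObjPreimageIso N
  let T := ((tilde.functor R).mapHomologicalComplex (ComplexShape.up ℤ)).obj I
  haveI := QCohD.hasInjectiveResolutions_modules (X := Spec R)
  have hT : ∀ i, Coh.IsQCoh (T.X i) := fun i => by
    have h : (tilde (I.X i)).IsQuasicoherent := inferInstance
    exact h
  haveI := QCohD.AffineUnit.isIso_rpushUnit_acyclic j T hT fun n i hi => by
    haveI : Injective (I.X n) := (hN C).2.2.2 n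
    haveI : Module.Injective R (I.X n) := Module.injective_module_of_injective_object R (I.X n)
    haveI := H10Inj.injective_tilde (I.X n)
    exact AcyclicLES.isAcyclic_of_injective (Scheme.Modules.pushforward j) (tilde (I.X n)) i hi
  haveI := ExactRightAdj.isIso_β (F := Gj) I
  refine ⟨(iD X).mapIso ((ExactRightAdj.RF Gj).mapIso e.symm ≪≫
      (asIso ((ExactRightAdj.β Gj).app (qR.obj I))).symm ≪≫
      (DerivedCategory.quotientCompQhIso _).app _) ≪≫
    (q X).ι.mapDerivedCategoryFactors.app _ ≪≫ ?_ ≪≫
    (DCoh.Rpush j).mapIso (((tilde.functor R).mapDerivedCategoryFactors.app I).symm ≪≫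
      (tilde.functor R).mapDerivedCategory.mapIso
        (((DerivedCategory.quotientCompQhIso _).app I).symm ≪≫ e))⟩
  exact ((DerivedCategory.quotientCompQhIso _).app
      (((Scheme.Modules.pushforward j).mapHomologicalComplex (ComplexShape.up ℤ)).obj T)).symm ≪≫
    asIso ((KFlat.Stalk.rpushUnit j).app ((HomotopyCategory.quotient _ _).obj T)) ≪≫
    (DCoh.Rpush j).mapIso ((DerivedCategory.quotientCompQhIso _).app T)

end Chart

/-- A finite family of Noetherian affine charts, given by opens. -/
structure NCharts (X : Scheme.{u}) (κ : Type) where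
  /-- The opens. -/
  U : κ → X.Opens
  affine : ∀ i, IsAffineOpen (U i)
  noeth : ∀ i, IsNoetherianRing Γ(X, U i)
  quasiCompact : ∀ i, QuasiCompact (affine i).fromSpec
  cover : ∀ x : X, ∃ i, x ∈ U i

attribute [instance] NCharts.noeth NCharts.quasiCompact

variable {κ : Type} (U : NCharts X κ)

/-- The chart. -/
abbrev NCharts.j (i : κ) : Spec Γ(X, U.U i) ⟶ X := (U.affine i).fromSpec

theorem isZero_of_ncharts {K : DCoh.D X} (h : ∀ i, IsZero ((rd (U.j i)).obj K)) : IsZero K :=
  MVPush.isZero_of_hd K fun n => Kunneth.isZero_of_sections _ fun W =>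
    subsingleton_of_forall_eq 0 fun s => by
      refine TopCat.Presheaf.section_ext (sh (DCoh.HD K n)) W _ _ fun x hx => ?_
      obtain ⟨i, hi⟩ := U.cover x
      haveI := Kunneth.subsingleton_of_isZero_restrict (U.j i)
        (((DerivedCategory.homologyFunctor _ n).map_isZero (h i)).of_iso
          (KFlat.Stalk.homologyRdIso (U.j i) K n).symm)
        (W := W ⊓ U.U i) (le_trans inf_le_right (U.affine i).opensRange_fromSpec.ge)
      exact (germ_eq_zero_of_le (DCoh.HD K n) (inf_le_left : W ⊓ U.U i ≤ W)
        (⟨hx, hi⟩ : x ∈ W ⊓ U.U i) _ (Subsingleton.elim _ _)).trans (map_zero _).symm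

/-- Direct images from one chart of a restriction vanish on a chart where the object does. -/
theorem isZero_rd_push_rd (m i : κ) [DCoh.HasRpush (U.j m)] {K : DCoh.D X}
    (h : IsZero ((rd (U.j i)).obj K)) :
    IsZero ((rd (U.j i)).obj ((DCoh.Rpush (U.j m)).obj ((rd (U.j m)).obj K))) := by
  let j := U.j m
  have h₁ : IsZero ((rd (j ⁻¹ᵁ U.U i).ι).obj ((rd j).obj K)) :=
    isZero_rd_restrict (U.j i) j (j ⁻¹ᵁ U.U i).ι
      (by rw [Scheme.Opens.opensRange_ι, (U.affine i).opensRange_fromSpec]; exact j.image_preimage_le _)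
      K h
  have h₂ := RGammaZ.isZero_rd_rpush j (U.U i) h₁
  refine MVPush.isZero_of_hd _ fun n => IsZero.of_iso ?_ (KFlat.Stalk.homologyRdIso (U.j i) _ n)
  exact Kunneth.isZero_of_sections _ fun W => Kunneth.subsingleton_of_isZero_restrict (U.U i).ι
    (((DerivedCategory.homologyFunctor _ n).map_isZero h₂).of_iso
      (KFlat.Stalk.homologyRdIso (U.U i).ι _ n).symm)
    (W := (U.j i) ''ᵁ W)
    (((U.j i).image_le_opensRange W).trans
      (by rw [Scheme.Opens.opensRange_ι, (U.affine i).opensRange_fromSpec]))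

/-- Complexes vanishing outside a finite set of charts are good. -/
theorem good_of_van_noeth (s : Finset κ) : ∀ L : DerivedCategory (q X).FullSubcategory,
    (∀ i, i ∉ s → IsZero ((F (U.j i)).mapDerivedCategory.obj L)) → Good L := by
  classical
  induction s using Finset.induction_on with
  | empty =>
    intro L hL
    refine Good.of_isZero ?_
    have hz : ∀ n, IsZero ((DerivedCategory.homologyFunctor (q X).FullSubcategory n).obj L) := fun n => by
      refine (IsZero.iff_id_eq_zero _).2 (ObjectProperty.hom_ext _ (IsZero.eq_of_src ?_ _ _))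
      refine Kunneth.isZero_of_sections _ fun W => subsingleton_of_forall_eq 0 fun s => ?_
      refine TopCat.Presheaf.section_ext (sh _) W _ _ fun x hx => ?_
      obtain ⟨i, hi⟩ := U.cover x
      haveI := Kunneth.subsingleton_of_isZero_restrict (U.j i)
        ((isZero_F_iff (U.j i) _).1 (((DerivedCategory.homologyFunctor _ n).map_isZero
          (hL i (Finset.notMem_empty i))).of_iso (homologyMapObjIso (F (U.j i)) L n).symm))
        (W := W ⊓ U.U i) (le_trans inf_le_right (U.affine i).opensRange_fromSpec.ge)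
      exact (germ_eq_zero_of_le _ (inf_le_left : W ⊓ U.U i ≤ W)
        (⟨hx, hi⟩ : x ∈ W ⊓ U.U i) _ (Subsingleton.elim _ _)).trans (map_zero _).symm
    let C := DerivedCategory.Q.objPreimage L
    let e : DerivedCategory.Q.obj C ≅ L := DerivedCategory.Q.objObjPreimageIso L
    haveI : QuasiIso (0 : C ⟶ C) := ⟨fun n => by
      rw [quasiIsoAt_iff_isIso_homologyMap]
      have h : IsZero (C.homology n) := (hz n).of_iso
        (((DerivedCategory.homologyFunctorFactors _ n).app C).symm ≪≫
          (DerivedCategory.homologyFunctor _ n).mapIso e)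
      exact isIso_of_source_target_iso_zero _ h.isoZero h.isoZero⟩
    refine IsZero.of_iso ?_ e.symm
    have h0 : IsIso (DerivedCategory.Q.map (0 : C ⟶ C)) := inferInstance
    rw [Functor.map_zero] at h0
    exact (IsZero.iff_id_eq_zero _).2 (((isIsoZeroEquiv _ _).toFun h0).1)
  | @insert m s hm ih =>
    intro L hL
    let j := U.j m
    haveI := QCohD.hasRpush j
    haveI := QCohD.preservesFiniteLimits_tilde_of Γ(X, U.U m)
    obtain ⟨G', b, hb, hθ⟩ := exists_rightAdj (X := X) j
    haveI := hb
    let N := (F (X := X) j).mapDerivedCategory.obj L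
    have hG : Good (G'.obj N) := fun K n => by
      letI := b.rightAdjointCommShift ℤ
      exact BoundedEquiv.bijective_conj (iD X) (Iso.refl K) ((G'.commShiftIso n).app N).symm
        (bijective_of_adj j b (N⟦n⟧) (hθ ‹_› (N⟦n⟧)).some K)
    obtain ⟨M, g, h, hT⟩ := distinguished_cocone_triangle (b.unit.app L)
    refine Good.left hT hG (ih M fun i hi => ?_)
    refine (Triangle.isZero₃_iff_isIso₁ _ ((F (U.j i)).mapDerivedCategory.map_distinguished _ hT)).2 ?_
    by_cases him : i = m
    · subst him
      show IsIso ((F (X := X) (U.j i)).mapDerivedCategory.map (b.unit.app L))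
      haveI : IsIso ((F (X := X) j).mapDerivedCategory.map (b.unit.app L) ≫ b.counit.app N) :=
        (b.left_triangle_components L).symm ▸ (inferInstance : IsIso (𝟙 N))
      exact IsIso.of_isIso_comp_right _ (b.counit.app N)
    · have h₁ := hL i (by simp [him, hi])
      refine isIso_of_source_target_iso_zero _ h₁.isoZero (IsZero.isoZero ?_)
      haveI := QCohD.preservesFiniteLimits_tilde_of Γ(X, U.U i)
      obtain ⟨σi⟩ := nonempty_rd_iD (X := X) (U.j i)
      obtain ⟨σm⟩ := nonempty_rd_iD (X := X) j
      let Ti := (tilde.functor Γ(X, U.U i)).mapDerivedCategory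
      haveI : Ti.Faithful := (QCohD.full_faithful Γ(X, U.U i)).2
      have hz : IsZero ((rd (U.j i)).obj ((iD X).obj L)) := (Ti.map_isZero h₁).of_iso (σi.app L)
      have h₂ := (isZero_rd_push_rd U m i hz).of_iso ((rd (U.j i)).mapIso
        ((hθ ‹_› N).some ≪≫ (DCoh.Rpush j).mapIso (σm.app L).symm))
      have h₃ : IsZero (Ti.obj ((F (U.j i)).mapDerivedCategory.obj (G'.obj N))) :=
        h₂.of_iso (σi.app (G'.obj N)).symm
      exact (IsZero.iff_id_eq_zero _).2 (Ti.map_injective (h₃.eq_of_src _ _))

variable [Fintype κ]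

include U in
theorem full_faithful_noeth : (iD X).Full ∧ (iD X).Faithful := by
  have key : ∀ K L : DerivedCategory (q X).FullSubcategory,
      Function.Bijective (fun φ : K ⟶ L => (iD X).map φ) := fun K L =>
    BoundedEquiv.bijective_conj (iD X) (Iso.refl K) ((shiftFunctorZero _ ℤ).app L).symm
      (good_of_van_noeth U Finset.univ L (fun i hi => absurd (Finset.mem_univ i) hi) K 0)
  exact ⟨⟨fun φ => (key _ _).2 φ⟩, ⟨fun h => (key _ _).1 h⟩⟩

/-- Objects with quasi-coherent cohomology come from `D(QCoh X)`. -/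
theorem exists_iso_of_isQCohD_noeth (s : Finset κ) : ∀ K : DCoh.D X, DCoh.IsQCohD K →
    (∀ i, i ∉ s → IsZero ((rd (U.j i)).obj K)) → ∃ M, Nonempty ((iD X).obj M ≅ K) := by
  classical
  induction s using Finset.induction_on with
  | empty =>
    exact fun K _ h => ⟨0, ⟨((iD X).map_isZero (isZero_zero _)).iso
      (isZero_of_ncharts U fun i => h i (Finset.notMem_empty i))⟩⟩
  | @insert m s hm ih =>
    intro K hK hv
    haveI := (full_faithful_noeth U).1
    let j := U.j m
    haveI := QCohD.hasRpush j
    haveI := QCohD.preservesFiniteLimits_tilde_of Γ(X, U.U m)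
    obtain ⟨G', b, hb, hθ⟩ := exists_rightAdj (X := X) j
    obtain ⟨N, ⟨e⟩⟩ := QCohD.exists_tildeD_iso Γ(X, U.U m) (QCohD.isQCohD_rd j hK)
    let θ : (iD X).obj (G'.obj N) ≅ (DCoh.Rpush j).obj ((rd j).obj K) :=
      (hθ ‹_› N).some ≪≫ (DCoh.Rpush j).mapIso e
    let a := Thomason.restrictRpushAdj j
    obtain ⟨Z, g, h, hT⟩ := distinguished_cocone_triangle (a.unit.app K ≫ θ.inv)
    have hZ : DCoh.IsQCohD Z := QCohD.AffineUnit.isQCohD_obj₃ hT hK (isQCohD_iD _)
    have hv' : ∀ i, i ∉ s → IsZero ((rd (U.j i)).obj Z) := fun i hi => by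
      by_cases him : i = m
      · subst him
        refine (Triangle.isZero₃_iff_isIso₁ _ ((rd (U.j i)).map_distinguished _ hT)).2 ?_
        show IsIso ((rd (U.j i)).map (a.unit.app K ≫ θ.inv))
        haveI := Thomason.isIso_rd_map_unit (U.j i) K
        rw [Functor.map_comp]
        infer_instance
      · have h₁ := hv i (by simp [him, hi])
        exact Triangle.isZero₃_of_isZero₁₂ _ ((rd (U.j i)).map_distinguished _ hT) h₁
          ((isZero_rd_push_rd U m i h₁).of_iso ((rd (U.j i)).mapIso θ))
    obtain ⟨M', ⟨e'⟩⟩ := ih Z hZ hv'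
    let φ : G'.obj N ⟶ M' := (iD X).preimage (g ≫ e'.inv)
    obtain ⟨W, p, r, hS⟩ := distinguished_cocone_triangle φ
    let eT := isoTriangleOfIso₁₂ ((iD X).mapTriangle.obj (Triangle.mk φ p r)) _
      ((iD X).map_distinguished _ hS) (rot_of_distTriang _ hT) (Iso.refl _) e' (by
        show (iD X).map φ ≫ e'.hom = 𝟙 _ ≫ g
        rw [Category.id_comp, Functor.map_preimage, Category.assoc, Iso.inv_hom_id, Category.comp_id])
    exact ⟨W⟦(-1 : ℤ)⟧, ⟨((iD X).commShiftIso (-1 : ℤ)).app W ≪≫
      (shiftFunctor _ (-1 : ℤ)).mapIso (Triangle.π₃.mapIso eT) ≪≫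
      (shiftFunctorCompIsoId _ (1 : ℤ) (-1) (by omega)).app K⟩⟩

include U in
theorem isQCohD_iff_noeth (K : DCoh.D X) :
    DCoh.IsQCohD K ↔ ∃ M, Nonempty ((iD X).obj M ≅ K) :=
  ⟨fun hK => exists_iso_of_isQCohD_noeth U Finset.univ K hK fun i hi => absurd (Finset.mem_univ i) hi,
    fun ⟨M, ⟨e⟩⟩ => QCohD.isQCohD_iso e (isQCohD_iD M)⟩

/-- A Noetherian scheme has a finite family of Noetherian charts. -/
theorem exists_ncharts (X : Scheme.{u}) [IsNoetherian X] :
    ∃ n : ℕ, Nonempty (NCharts X (Fin n)) := by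
  obtain ⟨t, ht, hcov⟩ :=
    (isCompact_and_isOpen_iff_finite_and_eq_biUnion_affineOpens (U := (Set.univ : Set X))).mp
      ⟨isCompact_univ, isOpen_univ⟩
  haveI : Fintype t := ht.fintype
  let V : Fin (Fintype.card t) → X.affineOpens := fun i => ((Fintype.equivFin t).symm i).1
  refine ⟨Fintype.card t, ⟨{
    U := fun i => (V i).1
    affine := fun i => (V i).2
    noeth := fun i => IsLocallyNoetherian.component_noetherian (V i)
    quasiCompact := fun i => ?_
    cover := fun x => ?_ }⟩⟩
  · haveI : QuasiCompact ((V i).2.fromSpec ≫ terminal.from X) := by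
      rw [terminalIsTerminal.hom_ext ((V i).2.fromSpec ≫ terminal.from X) (terminal.from _)]
      infer_instance
    exact QuasiCompact.of_comp _ (terminal.from X)
  · obtain ⟨W, hW, hxW⟩ := Set.mem_iUnion₂.1 (hcov.le (Set.mem_univ x))
    exact ⟨Fintype.equivFin t ⟨W, hW⟩, by simpa [V] using hxW⟩

end Groth.Agent.H16Derived.DQCoh
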