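import Groth.Agent.H16Derived.DQCoh.Acyclic
import Groth.Agent.H16Derived.QCohD.AcyclicUnit
import Groth.Agent.H16Derived.KFlat.PushPull
import Groth.Agent.H17.QCohCat.Groth
import Groth.Agent.H16Derived.KInjRes.Main

/-!
# The derived direct image on `D(QCoh)` and on `D(O)`
-/

set_option autoImplicit false
set_option linter.style.haveILetI false
set_option linter.unusedSectionVars false
set_option backward.isDefEq.respectTransparency false

noncomputable section

universe u

open CategoryTheory CategoryTheory.Limits CategoryTheory.Functor AlgebraicGeometry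

attribute [local instance] HasDerivedCategory.standard

namespace Groth.Agent.H16Derived.DQCoh

open CohQCoh
open Groth.Agent.H16Derived.KFlat.Stalk (rpushUnit)

variable {X Y : Scheme.{u}}
  [(q X).ContainsZero] [(q X).IsClosedUnderKernels] [(q X).IsClosedUnderCokernels]
  [(q X).IsClosedUnderFiniteProducts] [PreservesFiniteLimits (q X).ι] [PreservesFiniteColimits (q X).ι]
  [(q Y).ContainsZero] [(q Y).IsClosedUnderKernels] [(q Y).IsClosedUnderCokernels]
  [(q Y).IsClosedUnderFiniteProducts] [PreservesFiniteLimits (q Y).ι] [PreservesFiniteColimits (q Y).ι]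
  (f : X ⟶ Y) (hf : ∀ M : X.Modules, Coh.IsQCoh M → Coh.IsQCoh ((Scheme.Modules.pushforward f).obj M))

/-- `f_*` on quasi-coherent modules. -/
abbrev pushQ : (q X).FullSubcategory ⥤ (q Y).FullSubcategory :=
  (q Y).lift ((q X).ι ⋙ Scheme.Modules.pushforward f) (fun M => hf M.obj M.property)

/-- Resolutions by K-injective complexes of injective quasi-coherent modules. -/
theorem exists_local_qcoh (M : HomotopyCategory (q X).FullSubcategory (ComplexShape.up ℤ)) :
    ∃ (I : CochainComplex (q X).FullSubcategory ℤ) (_ : I.IsKInjective)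
      (s : M ⟶ (HomotopyCategory.quotient _ _).obj I), (∀ n, Injective (I.X n)) ∧
      HomotopyCategory.quasiIso (q X).FullSubcategory (ComplexShape.up ℤ) s := by
  haveI : IsGrothendieckAbelian.{u} (q X).FullSubcategory :=
    H17.QCohGroth.isGrothendieckAbelian (X := X)
  obtain ⟨N, j, hN⟩ := KInjRes.exists_resolution_functor (A := (q X).FullSubcategory)
  obtain ⟨K, rfl⟩ : ∃ K, (HomotopyCategory.quotient _ _).obj K = M := ⟨M.as, rfl⟩
  refine ⟨N.obj K, (hN K).2.2.1, (HomotopyCategory.quotient _ _).map (j.app K), (hN K).2.2.2, ?_⟩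
  rw [HomotopyCategory.quotient_map_mem_quasiIso_iff, HomologicalComplex.mem_quasiIso_iff]
  exact (hN K).2.1

variable [(pushQ f hf).Additive]

/-- Forgetting quasi-coherence commutes with direct images on homotopy categories. -/
def pushKIso : (pushQ f hf).mapHomotopyCategory (ComplexShape.up ℤ) ⋙
      (q Y).ι.mapHomotopyCategory (ComplexShape.up ℤ) ≅
    (q X).ι.mapHomotopyCategory (ComplexShape.up ℤ) ⋙
      (Scheme.Modules.pushforward f).mapHomotopyCategory (ComplexShape.up ℤ) :=
  NatIso.ofComponents (fun K => Iso.refl _) (by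
    rintro ⟨K⟩ ⟨L⟩ ⟨φ⟩
    exact (Category.comp_id _).trans (Category.id_comp _).symm)

variable [DCoh.HasRpush f] [QuasiCompact f] [QuasiSeparated f]
  [((pushQ f hf).mapHomotopyCategory (ComplexShape.up ℤ) ⋙ DerivedCategory.Qh).HasRightDerivedFunctor
    (HomotopyCategory.quasiIso (q X).FullSubcategory (ComplexShape.up ℤ))]

/-- `Rf_*` computed with quasi-coherent modules agrees with `Rf_*`. -/
theorem nonempty_push_iso
    (hac : ∀ [HasInjectiveResolutions X.Modules] (J : (q X).FullSubcategory), Injective J →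
      ∀ i : ℕ, 0 < i → IsZero ((Coh.Rpush f i).obj J.obj)) :
    Nonempty (((pushQ f hf).mapHomotopyCategory (ComplexShape.up ℤ) ⋙ DerivedCategory.Qh).totalRightDerived
        DerivedCategory.Qh (HomotopyCategory.quasiIso (q X).FullSubcategory (ComplexShape.up ℤ)) ⋙ iD Y ≅
      iD X ⋙ DCoh.Rpush f) := by
  haveI := QCohD.hasInjectiveResolutions_modules (X := X)
  let W := HomotopyCategory.quasiIso (q X).FullSubcategory (ComplexShape.up ℤ)
  let P := (pushQ f hf).mapHomotopyCategory (ComplexShape.up ℤ) ⋙ DerivedCategory.Qh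
  let Φ := P.totalRightDerived DerivedCategory.Qh W
  let α : P ⟶ DerivedCategory.Qh ⋙ Φ := P.totalRightDerivedUnit DerivedCategory.Qh W
  let α' : P ⋙ iD Y ⟶ DerivedCategory.Qh ⋙ Φ ⋙ iD Y :=
    whiskerRight α (iD Y) ≫ (Functor.associator _ _ _).hom
  let β : P ⋙ iD Y ⟶ DerivedCategory.Qh ⋙ iD X ⋙ DCoh.Rpush f :=
    (Functor.associator _ _ _).hom ≫
      whiskerLeft _ ((q Y).ι.mapDerivedCategoryFactorsh).hom ≫
      (Functor.associator _ _ _).inv ≫
      whiskerRight (pushKIso f hf).hom DerivedCategory.Qh ≫
      (Functor.associator _ _ _).hom ≫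
      whiskerLeft _ (rpushUnit f) ≫
      (Functor.associator _ _ _).inv ≫
      whiskerRight ((q X).ι.mapDerivedCategoryFactorsh).inv (DCoh.Rpush f) ≫
      (Functor.associator _ _ _).hom
  haveI : P.HasPointwiseRightDerivedFunctor W :=
    RDerived.hasPointwiseRightDerivedFunctor_of_resolutions DerivedCategory.Qh _ _ fun M => by
      obtain ⟨I, hI, s, -, hs⟩ := exists_local_qcoh M
      exact ⟨_, s, hs, fun K => CochainComplex.IsKInjective.Qh_map_bijective K I⟩
  haveI : (Φ ⋙ iD Y).IsRightDerivedFunctor α' W :=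
    RDerived.isRightDerivedFunctor_of_isIso_local _ _ _ _ _ fun M => by
      obtain ⟨I, hI, s, -, hs⟩ := exists_local_qcoh M
      refine ⟨_, s, hs, fun K => CochainComplex.IsKInjective.Qh_map_bijective K I, ?_⟩
      haveI : IsIso (α.app ((HomotopyCategory.quotient _ _).obj I)) :=
        RDerived.isIso_unit_app_of_bijective DerivedCategory.Qh W P Φ α _
          fun K => CochainComplex.IsKInjective.Qh_map_bijective K I
      simp only [α', NatTrans.comp_app, associator_hom_app, whiskerRight_app]
      infer_instance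
  haveI : (iD X ⋙ DCoh.Rpush f).IsRightDerivedFunctor β W :=
    RDerived.isRightDerivedFunctor_of_isIso_local _ _ _ _ _ fun M => by
      obtain ⟨I, hI, s, hinj, hs⟩ := exists_local_qcoh M
      refine ⟨_, s, hs, fun K => CochainComplex.IsKInjective.Qh_map_bijective K I, ?_⟩
      haveI : IsIso ((rpushUnit f).app (((q X).ι.mapHomotopyCategory (ComplexShape.up ℤ)).obj
          ((HomotopyCategory.quotient _ _).obj I))) :=
        QCohD.AffineUnit.isIso_rpushUnit_acyclic f
          (((q X).ι.mapHomologicalComplex (ComplexShape.up ℤ)).obj I)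
          (fun n => (I.X n).property) fun n i hi => hac (I.X n) (hinj n) i hi
      simp only [β, NatTrans.comp_app, associator_hom_app, associator_inv_app, whiskerRight_app,
        whiskerLeft_app]
      infer_instance
  exact ⟨Functor.rightDerivedUnique (Φ ⋙ iD Y) (iD X ⋙ DCoh.Rpush f) α' β W⟩

end Groth.Agent.H16Derived.DQCoh
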