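import Groth.Agent.H16Derived.DQCoh.Push
import Groth.Agent.H16Derived.ExactRightAdj
import Groth.Agent.H16Derived.KFlat.RestrictD
import Groth.Agent.H29Fitt.PullbackQCoh
import Mathlib.CategoryTheory.Adjunction.Restrict

/-!
# The derived coherator commutes with flat direct images

Both composites are right adjoint to the inverse image on `D(QCoh)`.
-/

set_option autoImplicit false
set_option linter.style.haveILetI false
set_option linter.unusedSectionVars false
set_option backward.isDefEq.respectTransparency false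

noncomputable section

universe u

open CategoryTheory CategoryTheory.Limits AlgebraicGeometry

attribute [local instance] HasDerivedCategory.standard

namespace Groth.Agent.H16Derived.DQCoh

open CohQCoh

variable {X Y : Scheme.{u}}
  [(q X).ContainsZero] [(q X).IsClosedUnderKernels] [(q X).IsClosedUnderCokernels]
  [(q X).IsClosedUnderFiniteProducts] [PreservesFiniteLimits (q X).ι] [PreservesFiniteColimits (q X).ι]
  [(q Y).ContainsZero] [(q Y).IsClosedUnderKernels] [(q Y).IsClosedUnderCokernels]
  [(q Y).IsClosedUnderFiniteProducts] [PreservesFiniteLimits (q Y).ι] [PreservesFiniteColimits (q Y).ι]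
  (f : X ⟶ Y) [Flat f] [DCoh.HasRpush f]
  (QX : X.Modules ⥤ (q X).FullSubcategory) (adjX : (q X).ι ⊣ QX) [QX.Additive]
  (QY : Y.Modules ⥤ (q Y).FullSubcategory) (adjY : (q Y).ι ⊣ QY) [QY.Additive]
  [(ExactRightAdj.Fh QX).HasRightDerivedFunctor (HomotopyCategory.quasiIso X.Modules (ComplexShape.up ℤ))]
  [(ExactRightAdj.Fh QY).HasRightDerivedFunctor (HomotopyCategory.quasiIso Y.Modules (ComplexShape.up ℤ))]
  (hf : ∀ M : X.Modules, Coh.IsQCoh M → Coh.IsQCoh ((Scheme.Modules.pushforward f).obj M))
  [(pushQ f hf).Additive]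
  [(ExactRightAdj.Fh (pushQ f hf)).HasRightDerivedFunctor
    (HomotopyCategory.quasiIso (q X).FullSubcategory (ComplexShape.up ℤ))]

/-- `f^*` on quasi-coherent modules. -/
abbrev pullQ : (q Y).FullSubcategory ⥤ (q X).FullSubcategory :=
  (q X).lift ((q Y).ι ⋙ Scheme.Modules.pullback f) fun M => H29Fitt.isQCoh_pullback f M.obj M.property

include adjX adjY in
/-- `RQ_Y ∘ Rf_* = Φ ∘ RQ_X` for flat `f`. -/
theorem nonempty_rq_iso :
    Nonempty (DCoh.Rpush f ⋙ ExactRightAdj.RF QY ≅
      ExactRightAdj.RF QX ⋙ ExactRightAdj.RF (pushQ f hf)) := by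
  haveI := KFlat.Stalk.isGrothendieckAbelian_modules (X := X)
  haveI := KFlat.Stalk.isGrothendieckAbelian_modules (X := Y)
  haveI : IsGrothendieckAbelian.{u} (q X).FullSubcategory :=
    H17.QCohGroth.isGrothendieckAbelian (X := X)
  let L := Scheme.Modules.pullback f
  let a := Scheme.Modules.pullbackPushforwardAdjunction f
  haveI : L.IsLeftAdjoint := a.isLeftAdjoint
  haveI : PreservesFiniteLimits L := KFlat.Stalk.preservesFiniteLimits_pullback_of_flat f
  haveI : PreservesFiniteColimits L := inferInstance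
  haveI : L.Additive := a.left_adjoint_additive
  let aQ : pullQ f ⊣ pushQ f hf :=
    a.restrictFullyFaithful (ObjectProperty.fullyFaithfulι (q Y)) (ObjectProperty.fullyFaithfulι (q X))
      (Iso.refl _) (Iso.refl _)
  haveI : (pullQ (X := X) f).Additive := aQ.left_adjoint_additive
  haveI : PreservesFiniteLimits ((q Y).ι ⋙ L) := comp_preservesFiniteLimits _ _
  haveI : PreservesFiniteColimits ((q Y).ι ⋙ L) := comp_preservesFiniteColimits _ _
  haveI : PreservesFiniteLimits (pullQ (X := X) f ⋙ (q X).ι) :=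
    inferInstanceAs (PreservesFiniteLimits ((q Y).ι ⋙ L))
  haveI : PreservesFiniteColimits (pullQ (X := X) f ⋙ (q X).ι) :=
    inferInstanceAs (PreservesFiniteColimits ((q Y).ι ⋙ L))
  haveI : PreservesFiniteLimits (pullQ (X := X) f) := preservesFiniteLimits_of_reflects_of_preserves _ (q X).ι
  haveI : PreservesFiniteColimits (pullQ (X := X) f) :=
    preservesFiniteColimits_of_reflects_of_preserves _ (q X).ι
  obtain ⟨e₁⟩ := BoundedEquiv.nonempty_mapDerivedCategory_comp L (q Y).ι (H := (q Y).ι ⋙ L) (Iso.refl _)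
  obtain ⟨e₂⟩ := BoundedEquiv.nonempty_mapDerivedCategory_comp (q X).ι (pullQ (X := X) f)
    (H := (q Y).ι ⋙ L) (Iso.refl _)
  exact ⟨((ExactRightAdj.adjD adjY).comp (ExactRightAdj.adjD a)).rightAdjointUniq
    (((ExactRightAdj.adjD aQ).comp (ExactRightAdj.adjD adjX)).ofNatIsoLeft (e₂ ≪≫ e₁.symm))⟩

end Groth.Agent.H16Derived.DQCoh
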